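import Cfsg.Agent.H198.FC.Defs

/-!
# S5764, L-S00: a solvable group of (anti)automorphisms of `End(V)` without inner elements
-/

set_option autoImplicit false

namespace Cfsg.Agent.H466.FC

open Cfsg.Agent.H198.FC

universe u v

section

variable {K : Type u} [Field K] {V : Type v} [AddCommGroup V] [Module K V]

theorem map_one_RA {f : Equiv.Perm (R K V)} (hf : f ∈ RA K V) : f 1 = 1 := by
  obtain ⟨-, h | h⟩ := hf
  · have h1 := h 1 (f.symm 1)
    rw [one_mul, Equiv.apply_symm_apply, mul_one] at h1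
    exact h1.symm
  · have h1 := h (f.symm 1) 1
    rw [mul_one, Equiv.apply_symm_apply, mul_one] at h1
    exact h1.symm

/-- the basic argument: if `f⁻¹ cj(x) f = cj(y)` with `x`, `y` of order a power of `p` then `y = x` -/
theorem eq_of_comm [Finite K] [Module.Finite K V] [Nontrivial V] {S : Subgroup (Equiv.Perm (R K V))}
    (hS : S ⊓ IN K V = ⊥)
    {p : ℕ} [Fact p.Prime] [CharP K p] {f : Equiv.Perm (R K V)} (hfS : f ∈ S) {x y : (R K V)ˣ}
    (hy : f⁻¹ * cj K V x * f = cj K V y) (hx : cj K V x * f * (cj K V x)⁻¹ ∈ S) {k : ℕ} (hx1 : x ^ p ^ k = 1)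
    (hy1 : y ^ p ^ k = 1) : y = x := by
  have h1 : cj K V (y * x⁻¹) ∈ S ⊓ IN K V := by
    refine Subgroup.mem_inf.2 ⟨?_, ⟨_, rfl⟩⟩
    rw [map_mul, map_inv, ← hy]
    have h2 := S.mul_mem (S.inv_mem hfS) hx
    simpa only [mul_assoc] using h2
  rw [hS, Subgroup.mem_bot] at h1
  set z := y * x⁻¹ with hz
  have hc : ∀ X : R K V, (z : R K V) * X = X * z := by
    intro X
    have h2 : cj K V z X = X := by rw [h1]; rfl
    rw [cj_apply] at h2
    rw [← Units.mul_inv_eq_iff_eq_mul]
    exact h2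
  have hzc : (z : R K V) ∈ Subalgebra.center K (R K V) := by
    rw [Subalgebra.mem_center_iff]
    exact fun X => (hc X).symm
  rw [Algebra.IsCentral.center_eq_bot] at hzc
  obtain ⟨c, hc'⟩ := Algebra.mem_bot.1 hzc
  have hyz : y = z * x := by rw [hz, inv_mul_cancel_right]
  have hcx : Commute z x := Units.ext (hc x)
  have h3 : z ^ p ^ k = 1 := by
    rw [hyz, hcx.mul_pow, hx1, mul_one] at hy1
    exact hy1
  have h4 : c ^ p ^ k = 1 := by
    have h5 := congrArg (fun u : (R K V)ˣ => (u : R K V)) h3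
    simp only [Units.val_pow_eq_pow_val, Units.val_one] at h5
    rw [← hc', ← map_pow] at h5
    exact (algebraMap K (R K V)).injective (h5.trans (map_one _).symm)
  have h5 : c = 1 := by
    have h6 : (c - 1) ^ p ^ k = 0 := by rw [sub_pow_char_pow, h4, one_pow, sub_self]
    exact sub_eq_zero.1 (eq_zero_of_pow_eq_zero h6)
  have h6 : z = 1 := by
    apply Units.ext
    rw [← hc', h5, map_one, Units.val_one]
  rw [hyz, h6, one_mul]

/-- automorphisms -/
theorem fix_of_auto [Finite K] [Module.Finite K V] [Nontrivial V] {S : Subgroup (Equiv.Perm (R K V))}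
    (hSA : S ≤ RA K V) (hS : S ⊓ IN K V = ⊥) {p : ℕ} [Fact p.Prime] [CharP K p] {f : Equiv.Perm (R K V)} (hfS : f ∈ S)
    (hf : ∀ X Y, f (X * Y) = f X * f Y) {x : (R K V)ˣ} (hx : cj K V x * f * (cj K V x)⁻¹ ∈ S) {k : ℕ}
    (hx1 : x ^ p ^ k = 1) : f x = x := by
  have h1 : f.symm 1 = 1 := by rw [Equiv.symm_apply_eq, map_one_RA (hSA hfS)]
  have hg : ∀ X Y, f.symm (X * Y) = f.symm X * f.symm Y := by
    intro X Y
    rw [Equiv.symm_apply_eq, hf, Equiv.apply_symm_apply, Equiv.apply_symm_apply]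
  let y : (R K V)ˣ := ⟨f.symm x, f.symm (x⁻¹ : (R K V)ˣ), by rw [← hg, Units.mul_inv, h1], by rw [← hg, Units.inv_mul, h1]⟩
  have hy : f⁻¹ * cj K V x * f = cj K V y := by
    apply Equiv.ext
    intro X
    change f.symm (x * f X * (x⁻¹ : (R K V)ˣ)) = f.symm x * X * f.symm (x⁻¹ : (R K V)ˣ)
    rw [hg, hg, Equiv.symm_apply_apply]
  have hpow : ∀ n : ℕ, ((y ^ n : (R K V)ˣ) : R K V) = f.symm ((x ^ n : (R K V)ˣ) : R K V) := by
    intro n
    induction n with
    | zero => rw [pow_zero, pow_zero, Units.val_one, h1]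
    | succ n ih => rw [pow_succ, pow_succ, Units.val_mul, Units.val_mul, ih, hg]
  have hy1 : y ^ p ^ k = 1 := by
    apply Units.ext
    rw [hpow, hx1, Units.val_one, h1]
  have h2 := eq_of_comm hS hfS hy hx hx1 hy1
  have h3 : f.symm x = x := congrArg (fun u : (R K V)ˣ => (u : R K V)) h2
  rw [Equiv.symm_apply_eq] at h3
  exact h3.symm

/-- anti-automorphisms -/
theorem inv_of_anti [Finite K] [Module.Finite K V] [Nontrivial V] {S : Subgroup (Equiv.Perm (R K V))}
    (hSA : S ≤ RA K V) (hS : S ⊓ IN K V = ⊥) {p : ℕ} [Fact p.Prime] [CharP K p] {f : Equiv.Perm (R K V)} (hfS : f ∈ S)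
    (hf : ∀ X Y, f (X * Y) = f Y * f X) {x : (R K V)ˣ} (hx : cj K V x * f * (cj K V x)⁻¹ ∈ S) {k : ℕ}
    (hx1 : x ^ p ^ k = 1) : f x = (x⁻¹ : (R K V)ˣ) := by
  have h1 : f.symm 1 = 1 := by rw [Equiv.symm_apply_eq, map_one_RA (hSA hfS)]
  have hg : ∀ X Y, f.symm (X * Y) = f.symm Y * f.symm X := by
    intro X Y
    rw [Equiv.symm_apply_eq, hf, Equiv.apply_symm_apply, Equiv.apply_symm_apply]
  let y : (R K V)ˣ := ⟨f.symm (x⁻¹ : (R K V)ˣ), f.symm x, by rw [← hg, Units.mul_inv, h1], by rw [← hg, Units.inv_mul, h1]⟩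
  have hy : f⁻¹ * cj K V x * f = cj K V y := by
    apply Equiv.ext
    intro X
    change f.symm (x * f X * (x⁻¹ : (R K V)ˣ)) = f.symm (x⁻¹ : (R K V)ˣ) * X * f.symm x
    rw [hg, hg, Equiv.symm_apply_apply, mul_assoc]
  have hpow : ∀ n : ℕ, ((y ^ n : (R K V)ˣ) : R K V) = f.symm ((x⁻¹ ^ n : (R K V)ˣ) : R K V) := by
    intro n
    induction n with
    | zero => rw [pow_zero, pow_zero, Units.val_one, h1]
    | succ n ih => rw [pow_succ, pow_succ', Units.val_mul, Units.val_mul, ih, hg]
  have hy1 : y ^ p ^ k = 1 := by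
    apply Units.ext
    rw [hpow, inv_pow, hx1, inv_one, Units.val_one, h1]
  have h2 := eq_of_comm hS hfS hy hx hx1 hy1
  have h3 : f.symm (x⁻¹ : (R K V)ˣ) = x := congrArg (fun u : (R K V)ˣ => (u : R K V)) h2
  rw [Equiv.symm_apply_eq] at h3
  exact h3.symm

/-- unipotent elements -/
theorem exists_uni [Finite K] [Module.Finite K V] [Nontrivial V] {p : ℕ} [Fact p.Prime] [CharP K p] {N : R K V} (hN : IsNilpotent N) :
    ∃ x : (R K V)ˣ, (x : R K V) = 1 + N ∧ LinearMap.det (x : R K V) = 1 ∧ ∃ k : ℕ, x ^ p ^ k = 1 := by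
  obtain ⟨x, hx⟩ := hN.isUnit_one_add
  obtain ⟨n, hn⟩ := hN
  have hR : CharP (R K V) p := charP_of_injective_algebraMap (algebraMap K (R K V)).injective p
  have h1 : x ^ p ^ n = 1 := by
    apply Units.ext
    rw [Units.val_pow_eq_pow_val, hx, add_pow_char_pow_of_commute _ _ (Commute.one_left N), one_pow,
      pow_eq_zero_of_le (Nat.lt_pow_self (Fact.out : p.Prime).one_lt).le hn, add_zero, Units.val_one]
  refine ⟨x, hx, ?_, n, h1⟩
  have h2 : (LinearMap.det (x : R K V)) ^ p ^ n = 1 := by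
    rw [← map_pow, ← Units.val_pow_eq_pow_val, h1, Units.val_one, map_one]
  have h6 : (LinearMap.det (x : R K V) - 1) ^ p ^ n = 0 := by rw [sub_pow_char_pow, h2, one_pow, sub_self]
  exact sub_eq_zero.1 (eq_zero_of_pow_eq_zero h6)

/-! ### matrix units -/

/-- matrix units -/
noncomputable def E {n : ℕ} (b : Module.Basis (Fin n) K V) (i j : Fin n) : R K V := (b.coord j).smulRight (b i)

theorem E_apply {n : ℕ} (b : Module.Basis (Fin n) K V) (i j : Fin n) (v : V) : E b i j v = b.coord j v • b i := rfl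

theorem E_basis {n : ℕ} (b : Module.Basis (Fin n) K V) (i j k : Fin n) : E b i j (b k) = if j = k then b i else 0 := by
  rw [E_apply, Module.Basis.coord_apply, Module.Basis.repr_self, Finsupp.single_apply]
  by_cases h : j = k
  · rw [if_pos h, if_pos h.symm, one_smul]
  · rw [if_neg h, if_neg (fun h1 => h h1.symm), zero_smul]

theorem E_mul {n : ℕ} (b : Module.Basis (Fin n) K V) (i j k l : Fin n) :
    E b i j * E b k l = if j = k then E b i l else 0 := by
  ext v
  rw [Module.End.mul_apply, E_apply b k l, map_smul, E_basis]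
  by_cases h : j = k
  · rw [if_pos h, if_pos h, E_apply]
  · rw [if_neg h, if_neg h, smul_zero]
    rfl

theorem E_ne {n : ℕ} (b : Module.Basis (Fin n) K V) (i j : Fin n) : E b i j ≠ 0 := by
  intro h
  have h1 := congrArg (fun X : R K V => X (b j)) h
  simp only [E_basis, if_true, LinearMap.zero_apply] at h1
  exact b.ne_zero i h1

theorem E_sum {n : ℕ} (b : Module.Basis (Fin n) K V) : ∑ i, E b i i = 1 := by
  apply b.ext
  intro k
  rw [LinearMap.sum_apply, Finset.sum_eq_single k]
  · rw [E_basis, if_pos rfl]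
    rfl
  · intro i _ hi
    rw [E_basis, if_neg hi]
  · exact fun h => absurd (Finset.mem_univ _) h

/-- the upper shift -/
noncomputable def Nn {m : ℕ} (b : Module.Basis (Fin (m + 2)) K V) : R K V := ∑ i : Fin (m + 1), E b i.castSucc i.succ

/-- the lower shift -/
noncomputable def Mm {m : ℕ} (b : Module.Basis (Fin (m + 2)) K V) : R K V := ∑ i : Fin (m + 1), E b i.succ i.castSucc

variable {m : ℕ} (b : Module.Basis (Fin (m + 2)) K V)

theorem Mm_mul_Nn : 1 - Mm b * Nn b = E b 0 0 := by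
  have h1 : Mm b * Nn b = ∑ i : Fin (m + 1), E b i.succ i.succ := by
    unfold Mm Nn
    rw [Finset.sum_mul]
    refine Finset.sum_congr rfl fun i _ => ?_
    rw [Finset.mul_sum, Finset.sum_eq_single i]
    · rw [E_mul, if_pos rfl]
    · intro j _ hj
      rw [E_mul, if_neg]
      exact fun h => hj (Fin.castSucc_injective _ h).symm
    · exact fun h => absurd (Finset.mem_univ _) h
  rw [h1, ← E_sum b, Fin.sum_univ_succ, add_sub_cancel_right]

theorem Mm_mul_E (i : Fin (m + 1)) (j : Fin (m + 2)) : Mm b * E b i.castSucc j = E b i.succ j := by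
  unfold Mm
  rw [Finset.sum_mul, Finset.sum_eq_single i]
  · rw [E_mul, if_pos rfl]
  · intro k _ hk
    rw [E_mul, if_neg]
    exact fun h => hk (Fin.castSucc_injective _ h)
  · exact fun h => absurd (Finset.mem_univ _) h

theorem E_mul_Nn (i : Fin (m + 2)) (j : Fin (m + 1)) : E b i j.castSucc * Nn b = E b i j.succ := by
  unfold Nn
  rw [Finset.mul_sum, Finset.sum_eq_single j]
  · rw [E_mul, if_pos rfl]
  · intro k _ hk
    rw [E_mul, if_neg]
    exact fun h => hk (Fin.castSucc_injective _ h).symm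
  · exact fun h => absurd (Finset.mem_univ _) h

theorem Nn_basis_zero : Nn b (b 0) = 0 := by
  unfold Nn
  rw [LinearMap.sum_apply]
  refine Finset.sum_eq_zero fun i _ => ?_
  rw [E_basis, if_neg (Fin.succ_ne_zero i)]

theorem Nn_basis_succ (i : Fin (m + 1)) : Nn b (b i.succ) = b i.castSucc := by
  unfold Nn
  rw [LinearMap.sum_apply, Finset.sum_eq_single i]
  · rw [E_basis, if_pos rfl]
  · intro k _ hk
    rw [E_basis, if_neg]
    exact fun h => hk (Fin.succ_injective _ h)
  · exact fun h => absurd (Finset.mem_univ _) h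

theorem Mm_basis_last : Mm b (b (Fin.last _)) = 0 := by
  unfold Mm
  rw [LinearMap.sum_apply]
  refine Finset.sum_eq_zero fun i _ => ?_
  rw [E_basis, if_neg (Fin.castSucc_lt_last i).ne]

theorem Mm_basis_castSucc (i : Fin (m + 1)) : Mm b (b i.castSucc) = b i.succ := by
  unfold Mm
  rw [LinearMap.sum_apply, Finset.sum_eq_single i]
  · rw [E_basis, if_pos rfl]
  · intro k _ hk
    rw [E_basis, if_neg]
    exact fun h => hk (Fin.castSucc_injective _ h)
  · exact fun h => absurd (Finset.mem_univ _) h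

theorem Nn_nilp : IsNilpotent (Nn b) := by
  have key : ∀ (k : ℕ) (i : Fin (m + 2)), i.val < k → (Nn b ^ k) (b i) = 0 := by
    intro k
    induction k with
    | zero => intro i hi; omega
    | succ k ih =>
      intro i hi
      rw [pow_succ, Module.End.mul_apply]
      refine Fin.cases ?_ ?_ i hi
      · intro _
        rw [Nn_basis_zero, map_zero]
      · intro j hj
        rw [Nn_basis_succ]
        exact ih _ (by rw [Fin.val_castSucc]; rw [Fin.val_succ] at hj; omega)
  refine ⟨m + 2, ?_⟩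
  apply b.ext
  intro i
  rw [key _ i i.2]
  rfl

theorem Mm_nilp : IsNilpotent (Mm b) := by
  have key : ∀ (k : ℕ) (i : Fin (m + 2)), m + 1 - i.val < k → (Mm b ^ k) (b i) = 0 := by
    intro k
    induction k with
    | zero => intro i hi; omega
    | succ k ih =>
      intro i hi
      rw [pow_succ, Module.End.mul_apply]
      refine Fin.lastCases ?_ ?_ i hi
      · intro _
        rw [Mm_basis_last, map_zero]
      · intro j hj
        rw [Mm_basis_castSucc]
        exact ih _ (by rw [Fin.val_succ]; rw [Fin.val_castSucc] at hj; omega)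
  refine ⟨m + 2, ?_⟩
  apply b.ext
  intro i
  rw [key _ i (by omega)]
  rfl

theorem sq_zero_E {i j : Fin (m + 2)} (h : i ≠ j) (c : K) : (c • E b i j) * (c • E b i j) = 0 := by
  rw [smul_mul_smul_comm, E_mul, if_neg h.symm, smul_zero]

/-- an automorphism fixing the two shifts and `γ E_01`, `γ` a generator of `K`, is trivial -/
theorem eq_one_of_fix {f : Equiv.Perm (R K V)} (hf0 : ∀ X Y, f (X + Y) = f X + f Y) (hf : ∀ X Y, f (X * Y) = f X * f Y)
    (hf1 : f 1 = 1) {γ : Kˣ} (hγ : ∀ c : Kˣ, c ∈ Submonoid.powers γ) (hN : f (Nn b) = Nn b) (hM : f (Mm b) = Mm b)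
    (hc : f ((γ : K) • E b 0 1) = (γ : K) • E b 0 1) : f = 1 := by
  have hz : f 0 = 0 := by
    have h1 := hf0 0 0
    rw [add_zero] at h1
    exact (add_eq_left.1 h1.symm)
  have hsub : ∀ X Y, f (X - Y) = f X - f Y := by
    intro X Y
    have h1 := hf0 (X - Y) Y
    rw [sub_add_cancel] at h1
    rw [h1, add_sub_cancel_right]
  have h00 : f (E b 0 0) = E b 0 0 := by
    rw [← Mm_mul_Nn, hsub, hf, hf1, hN, hM]
  have hi0 : ∀ i, f (E b i 0) = E b i 0 := by
    intro i
    induction i using Fin.induction with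
    | zero => exact h00
    | succ i ih => rw [← Mm_mul_E, hf, hM, ih]
  have h0j : ∀ j, f (E b 0 j) = E b 0 j := by
    intro j
    induction j using Fin.induction with
    | zero => exact h00
    | succ j ih => rw [← E_mul_Nn, hf, hN, ih]
  have hg : f ((γ : K) • E b 0 0) = (γ : K) • E b 0 0 := by
    have h1 : (γ : K) • E b 0 0 = ((γ : K) • E b 0 1) * E b 1 0 := by
      rw [smul_mul_assoc, E_mul, if_pos rfl]
    rw [h1, hf, hc, hi0]
  have hpow : ∀ k : ℕ, f (((γ ^ k : Kˣ) : K) • E b 0 0) = ((γ ^ k : Kˣ) : K) • E b 0 0 := by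
    intro k
    induction k with
    | zero => rw [pow_zero, Units.val_one, one_smul, h00]
    | succ k ih =>
      have h1 : ((γ ^ (k + 1) : Kˣ) : K) • E b 0 0 = (((γ ^ k : Kˣ) : K) • E b 0 0) * ((γ : K) • E b 0 0) := by
        rw [smul_mul_smul_comm, E_mul, if_pos rfl, pow_succ, Units.val_mul]
      rw [h1, hf, ih, hg]
  have hsc : ∀ a : K, f (a • E b 0 0) = a • E b 0 0 := by
    intro a
    by_cases ha : a = 0
    · rw [ha, zero_smul, hz]
    · obtain ⟨k, hk⟩ := hγ (Units.mk0 a ha)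
      have h1 : ((γ ^ k : Kˣ) : K) = a := by
        have h2 := congrArg (fun u : Kˣ => (u : K)) hk
        exact h2
      rw [← h1, hpow]
  have hcorn : ∀ (X : R K V) (i j : Fin (m + 2)), E b 0 i * X * E b j 0 = b.coord i (X (b j)) • E b 0 0 := by
    intro X i j
    apply b.ext
    intro k
    rw [Module.End.mul_apply, Module.End.mul_apply, E_basis, LinearMap.smul_apply, E_basis]
    by_cases h : 0 = k
    · rw [if_pos h, if_pos h, E_apply]
    · rw [if_neg h, if_neg h, map_zero, map_zero, smul_zero]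
  apply Equiv.ext
  intro X
  apply b.ext
  intro j
  apply b.ext_elem
  intro i
  have h1 : f (E b 0 i * X * E b j 0) = E b 0 i * X * E b j 0 := by rw [hcorn, hsc]
  rw [hf, hf, h0j, hi0, hcorn, hcorn] at h1
  have h2 := congrArg (fun Y : R K V => b.coord 0 (Y (b 0))) h1
  simp only [LinearMap.smul_apply, E_basis, if_true, map_smul, Module.Basis.coord_apply, Module.Basis.repr_self,
    Finsupp.single_eq_same, smul_eq_mul, mul_one] at h2
  exact h2

end

theorem stmtS00 : StmtS00.{u, v} := by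
  intro K _ _ V _ _ _ hn S hSA hS2 _ hS
  obtain ⟨m, hm⟩ : ∃ m, Module.finrank K V = m + 2 := ⟨Module.finrank K V - 2, by omega⟩
  let b : Module.Basis (Fin (m + 2)) K V := Module.finBasisOfFinrankEq K V hm
  have hnt : Nontrivial V := Module.nontrivial_of_finrank_pos (R := K) (by omega)
  obtain ⟨p, hp⟩ := CharP.exists K
  have hpp : Fact p.Prime := ⟨CharP.char_is_prime K p⟩
  obtain ⟨γ, hγ⟩ := IsCyclic.exists_monoid_generator (α := Kˣ)
  have h01 : (0 : Fin (m + 2)) ≠ 1 := by
    intro h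
    have := congrArg Fin.val h
    simp at this
  have hsq : ∀ a : R K V, a * a = 0 → IsNilpotent a := fun a h => ⟨2, by rw [pow_two, h]⟩
  have hinv : ∀ (a : R K V) (x : (R K V)ˣ), a * a = 0 → (x : R K V) = 1 + a → ((x⁻¹ : (R K V)ˣ) : R K V) = 1 - a := by
    intro a x h hx
    apply Units.inv_eq_of_mul_eq_one_right
    rw [hx, mul_sub, mul_one, add_mul, one_mul, h, add_zero, add_sub_cancel_right]
  obtain ⟨x1, hx1, hd1, k1, hk1⟩ := exists_uni (p := p) (Nn_nilp b)
  obtain ⟨x2, hx2, hd2, k2, hk2⟩ := exists_uni (p := p) (Mm_nilp b)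
  obtain ⟨x3, hx3, hd3, k3, hk3⟩ := exists_uni (p := p) (hsq _ (sq_zero_E b h01 (γ : K)))
  -- the fourth element
  have h4 : ∃ x4 : (R K V)ˣ, LinearMap.det (x4 : R K V) = 1 ∧ (∃ k, x4 ^ p ^ k = 1) ∧
      (2 < Module.finrank K V → ∃ j : Fin (m + 2), j ≠ 0 ∧ j ≠ 1 ∧ (x4 : R K V) = 1 + E b 1 j) := by
    by_cases h : 2 < Module.finrank K V
    · let j : Fin (m + 2) := ⟨2, by omega⟩
      have hj1 : (1 : Fin (m + 2)) ≠ j := by
        intro h
        have := congrArg Fin.val h
        simp [j] at this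
      have hj0 : j ≠ 0 := by
        intro h
        have := congrArg Fin.val h
        simp [j] at this
      have h5 := sq_zero_E b hj1 1
      rw [one_smul] at h5
      obtain ⟨x4, hx4, hd4, hk4⟩ := exists_uni (p := p) (hsq _ h5)
      exact ⟨x4, hd4, hk4, fun _ => ⟨j, hj0, hj1.symm, hx4⟩⟩
    · exact ⟨1, by rw [Units.val_one, map_one], ⟨0, one_pow _⟩, fun h' => absurd h' h⟩
  obtain ⟨x4, hd4, ⟨k4, hk4⟩, hx4⟩ := h4
  refine ⟨![x1, x2, x3, x4], ?_, ?_⟩
  · intro i
    fin_cases i
    · exact hd1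
    · exact hd2
    · exact hd3
    · exact hd4
  · intro f hfS hi
    have hi1 := hi 0
    have hi2 := hi 1
    have hi3 := hi 2
    have hi4 := hi 3
    simp only [Matrix.cons_val] at hi1 hi2 hi3 hi4
    have hf1 := map_one_RA (hSA hfS)
    have hfRA := hSA hfS
    obtain ⟨hf0, hf | hf⟩ := hfRA
    · have e1 := fix_of_auto hSA hS hfS hf hi1 hk1
      have e2 := fix_of_auto hSA hS hfS hf hi2 hk2
      have e3 := fix_of_auto hSA hS hfS hf hi3 hk3
      rw [hx1, hf0, hf1] at e1
      rw [hx2, hf0, hf1] at e2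
      rw [hx3, hf0, hf1] at e3
      exact eq_one_of_fix b hf0 hf hf1 hγ (add_left_cancel e1) (add_left_cancel e2) (add_left_cancel e3)
    · exfalso
      have hn3 : 2 < Module.finrank K V := by
        rcases Nat.lt_or_ge 2 (Module.finrank K V) with h | h
        · exact h
        · exfalso
          have h5 := hS2 (by omega) hfS
          -- `f` is an automorphism and an anti-automorphism
          have h6 : E b 0 1 * E b 1 1 = E b 1 1 * E b 0 1 := by
            apply f.injective
            rw [hf, h5.2]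
          rw [E_mul, if_pos rfl, E_mul, if_neg h01.symm] at h6
          exact E_ne b 0 1 h6
      obtain ⟨j, hj0, hj1, hx4'⟩ := hx4 hn3
      have e3 := inv_of_anti hSA hS hfS hf hi3 hk3
      have e4 := inv_of_anti hSA hS hfS hf hi4 hk4
      have h5 := sq_zero_E b hj1.symm 1
      rw [one_smul] at h5
      rw [hinv _ x3 (sq_zero_E b h01 (γ : K)) hx3, hx3, hf0, hf1, sub_eq_add_neg] at e3
      rw [hinv _ x4 h5 hx4', hx4', hf0, hf1, sub_eq_add_neg] at e4
      have e3' := add_left_cancel e3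
      have e4' := add_left_cancel e4
      have hz : f 0 = 0 := by
        have h1 := hf0 0 0
        rw [add_zero] at h1
        exact (add_eq_left.1 h1.symm)
      have h7 : f (E b 1 j * ((γ : K) • E b 0 1)) = ((γ : K) • E b 0 1) * E b 1 j := by
        rw [hf, e3', e4', neg_mul_neg]
      rw [mul_smul_comm, E_mul, if_neg hj0, smul_zero, hz, smul_mul_assoc, E_mul, if_pos rfl] at h7
      exact (smul_ne_zero γ.ne_zero (E_ne b 0 j)) h7.symm

end Cfsg.Agent.H466.FC
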